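import Cfsg.Agent.H16.Cv.McL.D

/-! Generated by tools/h16 (computation kit). -/

set_option maxRecDepth 100000
set_option maxHeartbeats 0

namespace H16.CvMcL

open H26 (jn)
theorem wf_0 : n0.wf (nat_lit 66825) = true := by decide +kernel
theorem wf_1 : n1.wf (nat_lit 66825) = true := by decide +kernel
theorem wf_2 : n2.wf (nat_lit 66825) = true := by decide +kernel
theorem wf_3 : n3.wf (nat_lit 66825) = true := by decide +kernel
theorem wf_4 : n4.wf (nat_lit 66825) = true := by decide +kernel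
theorem wf_5 : n5.wf (nat_lit 66825) = true := by decide +kernel
theorem wf_6 : n6.wf (nat_lit 66825) = true := by decide +kernel
theorem lgc : T.n ≤ 2 ^ (nat_lit 17) := by decide +kernel
theorem pr0 : T.prsChkJ (nat_lit 17) (nat_lit 0) (covPairs H15.McL.Rl 6 3 ta cp) = true := by decide +kernel
theorem pr1 : T.prsChkJ (nat_lit 17) (nat_lit 1) (covPairs H15.McL.Rl 6 3 ta cp) = true := by decide +kernel
theorem pr2 : T.prsChkJ (nat_lit 17) (nat_lit 2) (covPairs H15.McL.Rl 6 3 ta cp) = true := by decide +kernel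
theorem pr3 : T.prsChkJ (nat_lit 17) (nat_lit 3) (covPairs H15.McL.Rl 6 3 ta cp) = true := by decide +kernel
theorem pr4 : T.prsChkJ (nat_lit 17) (nat_lit 4) (covPairs H15.McL.Rl 6 3 ta cp) = true := by decide +kernel
theorem pr5 : T.prsChkJ (nat_lit 17) (nat_lit 5) (covPairs H15.McL.Rl 6 3 ta cp) = true := by decide +kernel
theorem pr6 : T.prsChkJ (nat_lit 17) (nat_lit 6) (covPairs H15.McL.Rl 6 3 ta cp) = true := by decide +kernel
theorem pr7 : T.prsChkJ (nat_lit 17) (nat_lit 7) (covPairs H15.McL.Rl 6 3 ta cp) = true := by decide +kernel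
theorem pr8 : T.prsChkJ (nat_lit 17) (nat_lit 8) (covPairs H15.McL.Rl 6 3 ta cp) = true := by decide +kernel
theorem pr9 : T.prsChkJ (nat_lit 17) (nat_lit 9) (covPairs H15.McL.Rl 6 3 ta cp) = true := by decide +kernel
theorem pr10 : T.prsChkJ (nat_lit 17) (nat_lit 10) (covPairs H15.McL.Rl 6 3 ta cp) = true := by decide +kernel
theorem pr11 : T.prsChkJ (nat_lit 17) (nat_lit 11) (covPairs H15.McL.Rl 6 3 ta cp) = true := by decide +kernel
theorem pr12 : T.prsChkJ (nat_lit 17) (nat_lit 12) (covPairs H15.McL.Rl 6 3 ta cp) = true := by decide +kernel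
theorem pr13 : T.prsChkJ (nat_lit 17) (nat_lit 13) (covPairs H15.McL.Rl 6 3 ta cp) = true := by decide +kernel
theorem pr14 : T.prsChkJ (nat_lit 17) (nat_lit 14) (covPairs H15.McL.Rl 6 3 ta cp) = true := by decide +kernel
theorem pr15 : T.prsChkJ (nat_lit 17) (nat_lit 15) (covPairs H15.McL.Rl 6 3 ta cp) = true := by decide +kernel
theorem pr16 : T.prsChkJ (nat_lit 17) (nat_lit 16) (covPairs H15.McL.Rl 6 3 ta cp) = true := by decide +kernel
theorem ne : ∀ q < 3 + 1, 1 < q → q ∣ 3 → ∃ b ∈ [0, T.n - 1], pullP T [6] (3 / q) (Nat.shiftLeft 1 b) ≠ Nat.shiftLeft 1 b := by decide +kernel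
theorem kc : allL (ltAll 6) H15.McL.Rl = true ∧ H15.McL.Rl.length = ta.length ∧ 1 < 3 ∧
    (cp.map fun y => y.2.2.1 * y.2.2.2).sum % 3 = 1 ∧ ∀ y ∈ cp, ltAll 6 y.1 = 0 ∧ ltAll 6 y.2.1 = 0 := by decide +kernel

end H16.CvMcL
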