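import Cfsg.Agent.H16.Sc.McL
import Cfsg.Agent.H16.Cv.McL.R0
import Cfsg.Agent.H16.Cv.McL.R1

/-! Generated by tools/h16 (computation kit). -/

set_option maxRecDepth 100000
set_option maxHeartbeats 0

namespace H16.CvMcL

open H26 (jn)
open H26 (jn)
noncomputable def n0_16 : ℕ := (nat_lit 0xdc3e22e057fd5c97e3e1aed73b8b94e93ebf7e3f1c60e3888b856fefc796167930bfbffffff7edfdffffaffdb8e5cffffffbfef7fffffff9ee7efffffdefffbff7fffffbdffffff7f57effedffffbf7dfef7fbebffdfffbf7feddbfebdd5befbefdd7bfbfffffffcffdffe37bfdd6ffdf7fff9ffffefe7fffdbfbffffffcfffe2aa5f555acfff7ecb59e16efeedcfb1bfdd213ffd797536654db98c1b8afd576c7)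
noncomputable def n0_17 : ℕ := (nat_lit 0xdc3e22e057fd5c97e3e1aed73b8b94e93ebf7e3f1c60e3888b856fefc796167930bfbffffff7edfdffffaffdb8e5cffffffbfef7fffffff9ee7efffffdefffbff7fffffbdffffff7f57effedffffbf7dfef7fbebffdfffbf7feddbfebdd5befbefdd7bfbfffffffcffdffe37bfdd6ffdf7fff9ffffefe7fffdbfbffffffcfffe2aa5f555acfff7ecb59e16efeedcfb1bfdd213ffd797536654db98c1b8afd576c7)
noncomputable def n0 : H26.Net := H26.Net.cons (nat_lit 1) n0_0 (H26.Net.cons (nat_lit 2) n0_1 (H26.Net.cons (nat_lit 4) n0_2 (H26.Net.cons (nat_lit 8) n0_3 (H26.Net.cons (nat_lit 16) n0_4 (H26.Net.cons (nat_lit 32) n0_5 (H26.Net.cons (nat_lit 64) n0_6 (H26.Net.cons (nat_lit 128) n0_7 (H26.Net.cons (nat_lit 256) n0_8 (H26.Net.cons (nat_lit 512) n0_9 (H26.Net.cons (nat_lit 1024) n0_10 (H26.Net.cons (nat_lit 2048) n0_11 (H26.Net.cons (nat_lit 4096) n0_12 (H26.Net.cons (nat_lit 8192) n0_13 (H26.Net.cons (nat_lit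 16384) n0_14 (H26.Net.cons (nat_lit 32768) n0_15 (H26.Net.cons (nat_lit 65536) n0_16 (H26.Net.cons (nat_lit 32768) n0_17 (H26.Net.cons (nat_lit 16384) n0_18 (H26.Net.cons (nat_lit 8192) n0_19 (H26.Net.cons (nat_lit 4096) n0_20 (H26.Net.cons (nat_lit 2048) n0_21 (H26.Net.cons (nat_lit 1024) n0_22 (H26.Net.cons (nat_lit 512) n0_23 (H26.Net.cons (nat_lit 256) n0_24 (H26.Net.cons (nat_lit 128) n0_25 (H26.Net.cons (nat_lit 64) n0_26 (H26.Net.cons (nat_lit 32) n0_27 (H26.Net.cons (nat_lit 16) n0_28 (H26.Net.cons (nat_lit 8) n0_29 (H26.Net.cons (nat_lit 4) n0_30 (H26.Net.cons (nat_lit 2) n0_31 (H26.Net.cons (nat_lit 1) n0_32 (H26.Net.nil)))))))))))))))))))))))))))))))))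
noncomputable def n1_16 : ℕ := (nat_lit 0xdec6ecb5fab415baffb059fae73dc380c55bb32376acb7609f3e9f6e17e8737c25b3fe57fbfd5dbfffffdbbddb57fb957b6f53dbffd7ff4f7fdf72e7effdb5ddfffdf9f7ffff6fdfb7fffaff5ffeffffaf2fe77ffdf7ffffdf77bff7bbf6efff7defbeffef79ffffdbb7eeffdbddfbefcf5f3d3b74fbfdffeffefe8fe6fe7f7021f1ddfb34db8ff6475fa7a9b1a337f0bef56fcbfb83adfbe7c520dcb8aff7a44)
noncomputable def n1_17 : ℕ := (nat_lit 0xdec6ecb5fab415baffb059fae73dc380c55bb32376acb7609f3e9f6e17e8737c25b3fe57fbfd5dbfffffdbbddb57fb957b6f53dbffd7ff4f7fdf72e7effdb5ddfffdf9f7ffff6fdfb7fffaff5ffeffffaf2fe77ffdf7ffffdf77bff7bbf6efff7defbeffef79ffffdbb7eeffdbddfbefcf5f3d3b74fbfdffeffefe8fe6fe7f7021f1ddfb34db8ff6475fa7a9b1a337f0bef56fcbfb83adfbe7c520dcb8aff7a44)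
noncomputable def n1 : H26.Net := H26.Net.cons (nat_lit 1) n1_0 (H26.Net.cons (nat_lit 2) n1_1 (H26.Net.cons (nat_lit 4) n1_2 (H26.Net.cons (nat_lit 8) n1_3 (H26.Net.cons (nat_lit 16) n1_4 (H26.Net.cons (nat_lit 32) n1_5 (H26.Net.cons (nat_lit 64) n1_6 (H26.Net.cons (nat_lit 128) n1_7 (H26.Net.cons (nat_lit 256) n1_8 (H26.Net.cons (nat_lit 512) n1_9 (H26.Net.cons (nat_lit 1024) n1_10 (H26.Net.cons (nat_lit 2048) n1_11 (H26.Net.cons (nat_lit 4096) n1_12 (H26.Net.cons (nat_lit 8192) n1_13 (H26.Net.cons (nat_lit 16384) n1_14 (H26.Net.cons (nat_lit 32768) n1_15 (H26.Net.cons (nat_lit 65536) n1_16 (H26.Net.cons (nat_lit 32768) n1_17 (H26.Net.cons (nat_lit 16384) n1_18 (H26.Net.cons (nat_lit 8192) n1_19 (H26.Net.cons (nat_lit 4096) n1_20 (H26.Net.cons (nat_lit 2048) n1_21 (H26.Net.cons (nat_lit 1024) n1_22 (H26.Net.cons (nat_lit 512) n1_23 (H26.Net.cons (nat_lit 256) n1_24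 (H26.Net.cons (nat_lit 128) n1_25 (H26.Net.cons (nat_lit 64) n1_26 (H26.Net.cons (nat_lit 32) n1_27 (H26.Net.cons (nat_lit 16) n1_28 (H26.Net.cons (nat_lit 8) n1_29 (H26.Net.cons (nat_lit 4) n1_30 (H26.Net.cons (nat_lit 2) n1_31 (H26.Net.cons (nat_lit 1) n1_32 (H26.Net.nil)))))))))))))))))))))))))))))))))
noncomputable def n2_16 : ℕ := (nat_lit 0x5e6fd57ba6ea5debcfd7bd5ceaef31db4b7f614c9c163af9fe7705bafbfd3a9ceef5dfff7fff7efeefefff97f3dfd7ffd7fbfbfe6fbe7ffdfffdffbfdffff7fedeffefe7fdfffff7fceefaff7ddffbbdfdeffffffff773f9fdffffffdfffffffb767bff7ffe8beb5f7d9bbffb73bfefeffffd7ffdfffbfbebfeffbdfbfdb7bfe896afe67e1f7e35c928aa2b16583fdeff4783dfb95f9e7770905bf37341bec4111)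
noncomputable def n2_17 : ℕ := (nat_lit 0x5e6fd57ba6ea5debcfd7bd5ceaef31db4b7f614c9c163af9fe7705bafbfd3a9ceef5dfff7fff7efeefefff97f3dfd7ffd7fbfbfe6fbe7ffdfffdffbfdffff7fedeffefe7fdfffff7fceefaff7ddffbbdfdeffffffff773f9fdffffffdfffffffb767bff7ffe8beb5f7d9bbffb73bfefeffffd7ffdfffbfbebfeffbdfbfdb7bfe896afe67e1f7e35c928aa2b16583fdeff4783dfb95f9e7770905bf37341bec4111)
noncomputable def n2 : H26.Net := H26.Net.cons (nat_lit 1) n2_0 (H26.Net.cons (nat_lit 2) n2_1 (H26.Net.cons (nat_lit 4) n2_2 (H26.Net.cons (nat_lit 8) n2_3 (H26.Net.cons (nat_lit 16) n2_4 (H26.Net.cons (nat_lit 32) n2_5 (H26.Net.cons (nat_lit 64) n2_6 (H26.Net.cons (nat_lit 128) n2_7 (H26.Net.cons (nat_lit 256) n2_8 (H26.Net.cons (nat_lit 512) n2_9 (H26.Net.cons (nat_lit 1024) n2_10 (H26.Net.cons (nat_lit 2048) n2_11 (H26.Net.cons (nat_lit 4096) n2_12 (H26.Net.cons (nat_lit 8192) n2_13 (H26.Net.cons (nat_lit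 16384) n2_14 (H26.Net.cons (nat_lit 32768) n2_15 (H26.Net.cons (nat_lit 65536) n2_16 (H26.Net.cons (nat_lit 32768) n2_17 (H26.Net.cons (nat_lit 16384) n2_18 (H26.Net.cons (nat_lit 8192) n2_19 (H26.Net.cons (nat_lit 4096) n2_20 (H26.Net.cons (nat_lit 2048) n2_21 (H26.Net.cons (nat_lit 1024) n2_22 (H26.Net.cons (nat_lit 512) n2_23 (H26.Net.cons (nat_lit 256) n2_24 (H26.Net.cons (nat_lit 128) n2_25 (H26.Net.cons (nat_lit 64) n2_26 (H26.Net.cons (nat_lit 32) n2_27 (H26.Net.cons (nat_lit 16) n2_28 (H26.Net.cons (nat_lit 8) n2_29 (H26.Net.cons (nat_lit 4) n2_30 (H26.Net.cons (nat_lit 2) n2_31 (H26.Net.cons (nat_lit 1) n2_32 (H26.Net.nil)))))))))))))))))))))))))))))))))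
noncomputable def n3_16 : ℕ := (nat_lit 0x30cb4d1ef349fed5afdac1e71c3581d7411ffed32eec8e14faa3f50fffffdefb7b7fbfb6df7def6ebf5f75fedf8ffdf3e4fee9ffbffefb97fdb7bffedf8fd7ebfd5adbbbfb7ffdfbdde3ff7efecbfbf8f35f7bffefbfffffa7bdf77df2bff5aff7bf76dfeffbfffdeffdfdbffffc66ff7ffd96e2ffffc73fffeffbf9e7fbfa9e8677be5167caac2ef6379fcaaf6e7d9cffbf96efaf906dabc7e4d7fbaeae707c84)
noncomputable def n3_17 : ℕ := (nat_lit 0x30cb4d1ef349fed5afdac1e71c3581d7411ffed32eec8e14faa3f50fffffdefb7b7fbfb6df7def6ebf5f75fedf8ffdf3e4fee9ffbffefb97fdb7bffedf8fd7ebfd5adbbbfb7ffdfbdde3ff7efecbfbf8f35f7bffefbfffffa7bdf77df2bff5aff7bf76dfeffbfffdeffdfdbffffc66ff7ffd96e2ffffc73fffeffbf9e7fbfa9e8677be5167caac2ef6379fcaaf6e7d9cffbf96efaf906dabc7e4d7fbaeae707c84)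
noncomputable def n3 : H26.Net := H26.Net.cons (nat_lit 1) n3_0 (H26.Net.cons (nat_lit 2) n3_1 (H26.Net.cons (nat_lit 4) n3_2 (H26.Net.cons (nat_lit 8) n3_3 (H26.Net.cons (nat_lit 16) n3_4 (H26.Net.cons (nat_lit 32) n3_5 (H26.Net.cons (nat_lit 64) n3_6 (H26.Net.cons (nat_lit 128) n3_7 (H26.Net.cons (nat_lit 256) n3_8 (H26.Net.cons (nat_lit 512) n3_9 (H26.Net.cons (nat_lit 1024) n3_10 (H26.Net.cons (nat_lit 2048) n3_11 (H26.Net.cons (nat_lit 4096) n3_12 (H26.Net.cons (nat_lit 8192) n3_13 (H26.Net.cons (nat_lit 16384) n3_14 (H26.Net.cons (nat_lit 32768) n3_15 (H26.Net.cons (nat_lit 65536) n3_16 (H26.Net.cons (nat_lit 32768) n3_17 (H26.Net.cons (nat_lit 16384) n3_18 (H26.Net.cons (nat_lit 8192) n3_19 (H26.Net.cons (nat_lit 4096) n3_20 (H26.Net.cons (nat_lit 2048) n3_21 (H26.Net.cons (nat_lit 1024) n3_22 (H26.Net.cons (nat_lit 512) n3_23 (H26.Net.cons (nat_lit 256) n3_24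 (H26.Net.cons (nat_lit 128) n3_25 (H26.Net.cons (nat_lit 64) n3_26 (H26.Net.cons (nat_lit 32) n3_27 (H26.Net.cons (nat_lit 16) n3_28 (H26.Net.cons (nat_lit 8) n3_29 (H26.Net.cons (nat_lit 4) n3_30 (H26.Net.cons (nat_lit 2) n3_31 (H26.Net.cons (nat_lit 1) n3_32 (H26.Net.nil)))))))))))))))))))))))))))))))))
noncomputable def n4_16 : ℕ := (nat_lit 0x81f3f54dab70f72cfd6ecf21f1c9ad86cb7fb3faf7b421af5a7ead1e4def2b5e48fdbfffff37ebfadbf7f6affe5fffdffbbfffdfdf2e9fff31bbfffff7fbffdf3ffdebffefff3fffefefdfe6ffff5f75feff77fffff2fffcfbffddffbfff73fffefffffff7ff5f777fde7ffbfdfdfffef7ffddd7bbddbecfff7ffefebffbf7fb5cafda5fa07a4f82c9c2b7bf049d1a349f8b5716ffcb1cd1fd1192e2eb757dcf87)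
noncomputable def n4_17 : ℕ := (nat_lit 0x81f3f54dab70f72cfd6ecf21f1c9ad86cb7fb3faf7b421af5a7ead1e4def2b5e48fdbfffff37ebfadbf7f6affe5fffdffbbfffdfdf2e9fff31bbfffff7fbffdf3ffdebffefff3fffefefdfe6ffff5f75feff77fffff2fffcfbffddffbfff73fffefffffff7ff5f777fde7ffbfdfdfffef7ffddd7bbddbecfff7ffefebffbf7fb5cafda5fa07a4f82c9c2b7bf049d1a349f8b5716ffcb1cd1fd1192e2eb757dcf87)
noncomputable def n4 : H26.Net := H26.Net.cons (nat_lit 1) n4_0 (H26.Net.cons (nat_lit 2) n4_1 (H26.Net.cons (nat_lit 4) n4_2 (H26.Net.cons (nat_lit 8) n4_3 (H26.Net.cons (nat_lit 16) n4_4 (H26.Net.cons (nat_lit 32) n4_5 (H26.Net.cons (nat_lit 64) n4_6 (H26.Net.cons (nat_lit 128) n4_7 (H26.Net.cons (nat_lit 256) n4_8 (H26.Net.cons (nat_lit 512) n4_9 (H26.Net.cons (nat_lit 1024) n4_10 (H26.Net.cons (nat_lit 2048) n4_11 (H26.Net.cons (nat_lit 4096) n4_12 (H26.Net.cons (nat_lit 8192) n4_13 (H26.Net.cons (nat_lit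 16384) n4_14 (H26.Net.cons (nat_lit 32768) n4_15 (H26.Net.cons (nat_lit 65536) n4_16 (H26.Net.cons (nat_lit 32768) n4_17 (H26.Net.cons (nat_lit 16384) n4_18 (H26.Net.cons (nat_lit 8192) n4_19 (H26.Net.cons (nat_lit 4096) n4_20 (H26.Net.cons (nat_lit 2048) n4_21 (H26.Net.cons (nat_lit 1024) n4_22 (H26.Net.cons (nat_lit 512) n4_23 (H26.Net.cons (nat_lit 256) n4_24 (H26.Net.cons (nat_lit 128) n4_25 (H26.Net.cons (nat_lit 64) n4_26 (H26.Net.cons (nat_lit 32) n4_27 (H26.Net.cons (nat_lit 16) n4_28 (H26.Net.cons (nat_lit 8) n4_29 (H26.Net.cons (nat_lit 4) n4_30 (H26.Net.cons (nat_lit 2) n4_31 (H26.Net.cons (nat_lit 1) n4_32 (H26.Net.nil)))))))))))))))))))))))))))))))))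
noncomputable def n5_16 : ℕ := (nat_lit 0x1d8abbd4969bea7e36e6d4fe8fe6b3ffd35f93dd77d4be3ffb6cf7fcbbf70b0f3a43fbef7effdbfff3fbffff77adeb7edcffcfebfebfff7fb75fcefffeffff7bfbfa7f7afdafdfffb7ffffffce5ffdf7bffddffffc7fffffffeb0bafcdbfffb7d7dfbfffffaf1f7effefbeffffff7edffbbff7eefdfffffeeeff78effffdfebf6055e5fffe596ef7cbdc1b7bf77ffef5b57d7dc27bffe377df39bde36beff4fce2a)
noncomputable def n5_17 : ℕ := (nat_lit 0x1d8abbd4969bea7e36e6d4fe8fe6b3ffd35f93dd77d4be3ffb6cf7fcbbf70b0f3a43fbef7effdbfff3fbffff77adeb7edcffcfebfebfff7fb75fcefffeffff7bfbfa7f7afdafdfffb7ffffffce5ffdf7bffddffffc7fffffffeb0bafcdbfffb7d7dfbfffffaf1f7effefbeffffff7edffbbff7eefdfffffeeeff78effffdfebf6055e5fffe596ef7cbdc1b7bf77ffef5b57d7dc27bffe377df39bde36beff4fce2a)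
noncomputable def n5 : H26.Net := H26.Net.cons (nat_lit 1) n5_0 (H26.Net.cons (nat_lit 2) n5_1 (H26.Net.cons (nat_lit 4) n5_2 (H26.Net.cons (nat_lit 8) n5_3 (H26.Net.cons (nat_lit 16) n5_4 (H26.Net.cons (nat_lit 32) n5_5 (H26.Net.cons (nat_lit 64) n5_6 (H26.Net.cons (nat_lit 128) n5_7 (H26.Net.cons (nat_lit 256) n5_8 (H26.Net.cons (nat_lit 512) n5_9 (H26.Net.cons (nat_lit 1024) n5_10 (H26.Net.cons (nat_lit 2048) n5_11 (H26.Net.cons (nat_lit 4096) n5_12 (H26.Net.cons (nat_lit 8192) n5_13 (H26.Net.cons (nat_lit 16384) n5_14 (H26.Net.cons (nat_lit 32768) n5_15 (H26.Net.cons (nat_lit 65536) n5_16 (H26.Net.cons (nat_lit 32768) n5_17 (H26.Net.cons (nat_lit 16384) n5_18 (H26.Net.cons (nat_lit 8192) n5_19 (H26.Net.cons (nat_lit 4096) n5_20 (H26.Net.cons (nat_lit 2048) n5_21 (H26.Net.cons (nat_lit 1024) n5_22 (H26.Net.cons (nat_lit 512) n5_23 (H26.Net.cons (nat_lit 256) n5_24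 (H26.Net.cons (nat_lit 128) n5_25 (H26.Net.cons (nat_lit 64) n5_26 (H26.Net.cons (nat_lit 32) n5_27 (H26.Net.cons (nat_lit 16) n5_28 (H26.Net.cons (nat_lit 8) n5_29 (H26.Net.cons (nat_lit 4) n5_30 (H26.Net.cons (nat_lit 2) n5_31 (H26.Net.cons (nat_lit 1) n5_32 (H26.Net.nil)))))))))))))))))))))))))))))))))
noncomputable def n6_16 : ℕ := (nat_lit 0x8000000000000000000000000000000000000000000000000000000000000000000000000000000000000000000000000000000000000000000000000000000000000000000000000000000000000000000000000000000000000000000000000000000000000000000000000000000000000000000000000000000000000000)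
noncomputable def n6_17 : ℕ := (nat_lit 0x8000000000000000000000000000000000000000000000000000000000000000000000000000000000000000000000000000000000000000000000000000000000000000000000000000000000000000000000000000000000000000000000000000000000000000000000000000000000000000000000000000000000000000)
noncomputable def n6 : H26.Net := H26.Net.cons (nat_lit 1) n6_0 (H26.Net.cons (nat_lit 2) n6_1 (H26.Net.cons (nat_lit 4) n6_2 (H26.Net.cons (nat_lit 8) n6_3 (H26.Net.cons (nat_lit 16) n6_4 (H26.Net.cons (nat_lit 32) n6_5 (H26.Net.cons (nat_lit 64) n6_6 (H26.Net.cons (nat_lit 128) n6_7 (H26.Net.cons (nat_lit 256) n6_8 (H26.Net.cons (nat_lit 512) n6_9 (H26.Net.cons (nat_lit 1024) n6_10 (H26.Net.cons (nat_lit 2048) n6_11 (H26.Net.cons (nat_lit 4096) n6_12 (H26.Net.cons (nat_lit 8192) n6_13 (H26.Net.cons (nat_lit 16384) n6_14 (H26.Net.cons (nat_lit 32768) n6_15 (H26.Net.cons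 (nat_lit 65536) n6_16 (H26.Net.cons (nat_lit 32768) n6_17 (H26.Net.cons (nat_lit 16384) n6_18 (H26.Net.cons (nat_lit 8192) n6_19 (H26.Net.cons (nat_lit 4096) n6_20 (H26.Net.cons (nat_lit 2048) n6_21 (H26.Net.cons (nat_lit 1024) n6_22 (H26.Net.cons (nat_lit 512) n6_23 (H26.Net.cons (nat_lit 256) n6_24 (H26.Net.cons (nat_lit 128) n6_25 (H26.Net.cons (nat_lit 64) n6_26 (H26.Net.cons (nat_lit 32) n6_27 (H26.Net.cons (nat_lit 16) n6_28 (H26.Net.cons (nat_lit 8) n6_29 (H26.Net.cons (nat_lit 4) n6_30 (H26.Net.cons (nat_lit 2) n6_31 (H26.Net.cons (nat_lit 1) n6_32 (H26.Net.nil)))))))))))))))))))))))))))))))))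
noncomputable def T : H26.Tab := ⟨(nat_lit 66825), [n0, n1, n2, n3, n4, n5, n6]⟩
noncomputable def ta : List ℕ := [nat_lit 0, nat_lit 0, nat_lit 0, nat_lit 1, nat_lit 0, nat_lit 2, nat_lit 0, nat_lit 0, nat_lit 0, nat_lit 0, nat_lit 0, nat_lit 0, nat_lit 1, nat_lit 0, nat_lit 2, nat_lit 1, nat_lit 0, nat_lit 0, nat_lit 0, nat_lit 0, nat_lit 0, nat_lit 0, nat_lit 2, nat_lit 1, nat_lit 0, nat_lit 2, nat_lit 1, nat_lit 1]
noncomputable def cp : List (List ℕ × List ℕ × ℕ × ℕ) := [([nat_lit 4, nat_lit 3], [nat_lit 0, nat_lit 4, nat_lit 1, nat_lit 4, nat_lit 1], (nat_lit 2), (nat_lit 2))]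

end H16.CvMcL
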